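import Mathlib
import Cfsg.Statements.S1350
import Cfsg.Statements.S1378
import Cfsg.Statements.S1403
import Cfsg.Statements.S1404
import Cfsg.Statements.S1405
import Cfsg.Statements.S1414
import Cfsg.Statements.S1420
import Cfsg.Statements.S1423
import Cfsg.Statements.S1426
import Cfsg.Statements.S1429
import Cfsg.Statements.S1430
import Cfsg.Agent.Lib.Helper27.BG.SigmaBasic
import Cfsg.Agent.Lib.Helper74.BG.S1425Core
import Cfsg.Agent.Lib.Helper67.BG.S1432Core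
import Cfsg.Agent.Lib.Helper78.BG.S1405Core
import Cfsg.Agent.Lib.Helper97.FrobFormula
import Cfsg.Agent.Lib.Helper16.BG.NilHall
import Cfsg.Agent.Lib.Helper1.SZInternal

/-!
Bender–Glauberman: the sigma-partition (statement S1378).  Every prime divisor of `|G|` lies in
`σ(M)` for some maximal subgroup `M`, and two maximal subgroups `M`, `N` with
`σ(M) ∩ σ(N) ≠ ∅` are conjugate.  Derived from S1350, S1403, S1404, S1405, S1414, S1420, S1423,
S1426, S1429 and S1430, which are taken as hypotheses.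
-/

set_option autoImplicit false

namespace Cfsg.Agent.Lib.Helper27.BG

open Cfsg Cfsg.Agent.Lib.Helper46 Cfsg.Agent.Lib.Helper35.BG

/-- The earlier statements used in the proof of the sigma-partition. -/
structure Hyp {G : Type*} [Group G] [Finite G] (hG : Cfsg.IsMinSimpleOddOrder G) : Prop where
  h1350 : type_of% (@Cfsg.CfsgFrozen.S1350 G _ _ hG)
  h1403 : type_of% (@Cfsg.CfsgFrozen.S1403 G _ _ hG)
  h1404 : type_of% (@Cfsg.CfsgFrozen.S1404 G _ _ hG)
  h1405 : type_of% (@Cfsg.CfsgFrozen.S1405 G _ _ hG)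
  h1414 : type_of% (@Cfsg.CfsgFrozen.S1414 G _ _ hG)
  h1420 : type_of% (@Cfsg.CfsgFrozen.S1420 G _ _ hG)
  h1423 : type_of% (@Cfsg.CfsgFrozen.S1423 G _ _ hG)
  h1426 : type_of% (@Cfsg.CfsgFrozen.S1426 G _ _ hG)
  h1429 : type_of% (@Cfsg.CfsgFrozen.S1429 G _ _ hG)
  h1430 : type_of% (@Cfsg.CfsgFrozen.S1430 G _ _ hG)

/-- The configuration to be refuted: two non-conjugate maximal subgroups `M`, `Ms` containing the
normalizer of a common nontrivial Sylow `q`-subgroup `S` of `G`. -/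
structure Cfg {G : Type*} [Group G] (M Ms S : Subgroup G) (q : ℕ) : Prop where
  hM : IsCoatom M
  hMs : IsCoatom Ms
  hq : q.Prime
  hS : IsSylowIn q S ⊤
  hS1 : S ≠ ⊥
  hSM : S ≤ M
  hSMs : S ≤ Ms
  hNM : Subgroup.normalizer (S : Set G) ≤ M
  hNMs : Subgroup.normalizer (S : Set G) ≤ Ms
  hnc : ∀ g : G, Ms ≠ M.map (MulAut.conj g).toMonoidHom

section

variable {G : Type*} [Group G] [Finite G] {hG : Cfsg.IsMinSimpleOddOrder G}
  {M Ms S : Subgroup G} {q : ℕ}

omit [Finite G] in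
theorem Cfg.symm (c : Cfg M Ms S q) : Cfg Ms M S q where
  hM := c.hMs
  hMs := c.hM
  hq := c.hq
  hS := c.hS
  hS1 := c.hS1
  hSM := c.hSMs
  hSMs := c.hSM
  hNM := c.hNMs
  hNMs := c.hNM
  hnc := by
    intro g hg
    apply c.hnc g⁻¹
    rw [hg, Cfsg.Agent.Lib.Helper35.BG.map_conj_mul, inv_mul_cancel,
      Cfsg.Agent.Lib.Helper35.BG.map_conj_one]

omit [Finite G] in
theorem Cfg.ne (c : Cfg M Ms S q) : M ≠ Ms := by
  intro h
  apply c.hnc 1
  rw [Cfsg.Agent.Lib.Helper35.BG.map_conj_one]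
  exact h.symm

theorem Cfg.sylM (c : Cfg M Ms S q) : IsSylowIn q S M := by
  have : Fact q.Prime := ⟨c.hq⟩
  exact sylIn_mono c.hS c.hSM le_top

omit [Finite G] in
theorem Cfg.pgroup (c : Cfg M Ms S q) : IsPGroup q S := by
  have : Fact q.Prime := ⟨c.hq⟩
  exact sylIn_isPGroup c.hS

theorem Cfg.mem_sigma (c : Cfg M Ms S q) : q ∈ sigma M := by
  have : Fact q.Prime := ⟨c.hq⟩
  refine mem_sigma_of_isSylowIn c.sylM ?_ c.hNM
  exact (Cfsg.Agent.Lib.Helper67.BG.dvd_card_of_isPGroup_ne_bot c.pgroup c.hS1).trans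
    (Subgroup.card_dvd_of_le c.hSM)

theorem Cfg.le_sigmaCore (h : Hyp hG) (c : Cfg M Ms S q) : S ≤ sigmaCore M := by
  have : Fact q.Prime := ⟨c.hq⟩
  have hHall := (h.h1350 M c.hM).1
  refine Cfsg.Agent.Lib.Helper74.BG.le_of_isPiHallOf_of_normal hHall
    (Cfsg.Agent.Lib.Helper67.BG.sigmaCore_normalizer M) c.hSM ?_
  intro p hp hdvd
  have := Cfsg.Agent.Lib.Helper67.BG.prime_eq_of_dvd_card_isPGroup c.pgroup hp hdvd
  rw [this]; exact c.mem_sigma

theorem Cfg.sylσ (h : Hyp hG) (c : Cfg M Ms S q) : IsSylowIn q S (sigmaCore M) := by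
  have : Fact q.Prime := ⟨c.hq⟩
  exact sylIn_mono c.hS (c.le_sigmaCore h) le_top

/-- A prime of `σ(Ms)` is not in `α(M)`. -/
theorem Cfg.not_alpha_of_sigma (h : Hyp hG) (c : Cfg M Ms S q) {r : ℕ} (hr : r ∈ sigma Ms) :
    r ∉ alpha M := by
  intro hα
  obtain ⟨hrp, hrk⟩ := hα
  have : Fact r.Prime := ⟨hrp⟩
  obtain ⟨g, hg⟩ := Cfsg.Agent.Lib.Helper74.BG.conj_of_sigma_of_rank3 hG h.h1403 c.hMs c.hM hr hrk
  exact c.symm.hnc g hg

/-- `S ∩ (M_σ)' = 1`. -/
theorem Cfg.inf_commutator (h : Hyp hG) (c : Cfg M Ms S q) :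
    S ⊓ ⁅sigmaCore M, sigmaCore M⁆ = ⊥ := by
  have : Fact q.Prime := ⟨c.hq⟩
  by_contra hne
  have hpg : IsPGroup q ↥(S ⊓ ⁅sigmaCore M, sigmaCore M⁆) := c.pgroup.to_le inf_le_left
  have hdvd : q ∣ Nat.card ↥(S ⊓ ⁅sigmaCore M, sigmaCore M⁆) :=
    Cfsg.Agent.Lib.Helper67.BG.dvd_card_of_isPGroup_ne_bot hpg hne
  obtain ⟨x, hx⟩ := exists_prime_orderOf_dvd_card' q hdvd
  have hx' : orderOf (x : G) = q := by rw [Subgroup.orderOf_coe, hx]
  have hXcard : Nat.card (Subgroup.zpowers (x : G)) = q := card_zpowers_of_orderOf hx'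
  have hXle : Subgroup.zpowers (x : G) ≤ S ⊓ ⁅sigmaCore M, sigmaCore M⁆ := by
    rw [Subgroup.zpowers_le]; exact x.2
  obtain ⟨P, hP⟩ := (c.sylσ h).exists_sylow
  have key := (h.h1423 M c.hM q c.mem_sigma (Subgroup.zpowers (x : G))
    (hXle.trans (inf_le_left.trans c.hSM)) hXcard P (Or.inr (hXle.trans inf_le_right))).2.1
  rw [hP] at key
  exact c.ne (key.unique ⟨c.hM, c.hSM⟩ ⟨c.hMs, c.hSMs⟩)

/-- `M_σ` is not nilpotent. -/
theorem Cfg.not_nilpotent (h : Hyp hG) (c : Cfg M Ms S q) :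
    ¬ Group.IsNilpotent (sigmaCore M) := by
  have : Fact q.Prime := ⟨c.hq⟩
  intro hnil
  have hSσ := c.sylσ h
  have h1 : sigmaCore M ≤ Subgroup.normalizer (S : Set G) :=
    Cfsg.Agent.Lib.Helper74.BG.le_normalizer_of_isSylowIn_of_nilpotent hnil hSσ
  have h2 : M ≤ Subgroup.normalizer (S : Set G) := by
    intro m hm
    apply mem_normalizer_of_map_conj_eq
    have hSm : IsSylowIn q (S.map (MulAut.conj m).toMonoidHom) (sigmaCore M) := by
      have := sylIn_map_conj hSσ m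
      rwa [map_conj_eq_of_mem_normalizer
        (Cfsg.Agent.Lib.Helper67.BG.sigmaCore_normalizer M hm)] at this
    have hle : S ≤ S.map (MulAut.conj m).toMonoidHom :=
      sylIn_normal_le hSm c.pgroup hSσ.1 h1
    exact sylIn_eq_of_le hSσ (isPGroup_map_conj c.pgroup m) hSm.1 hle
  have h3 : M ≤ Ms := h2.trans c.hNMs
  rcases eq_or_lt_of_le h3 with h4 | h4
  · exact c.ne h4
  · exact c.hMs.1 (c.hM.2 Ms h4)

/-- Every prime divisor of `|M|` outside `σ(M)` lies in `κ(M)`. -/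
theorem Cfg.kappa_of_not_sigma (h : Hyp hG) (c : Cfg M Ms S q) :
    ∀ p : ℕ, p.Prime → p ∣ Nat.card M → p ∉ sigma M → p ∈ kappa M := by
  by_contra hP1
  have hP1' := hP1
  push Not at hP1
  obtain ⟨p, hp, hdvd, hσ, hκ⟩ := hP1
  have : Fact p.Prime := ⟨hp⟩
  obtain ⟨P⟩ : Nonempty (Sylow p M) := inferInstance
  have hpn : p ∉ sigma M ∪ kappa M := by
    rintro (h1 | h1)
    · exact hσ h1
    · exact hκ h1
  exact c.not_nilpotent h (h.h1429 M c.hM hP1' p hdvd hpn P).2.2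

/-- A complement of `M_σ` in `M` inside `N_G(S)`. -/
theorem Cfg.exists_compl (h : Hyp hG) (c : Cfg M Ms S q) :
    ∃ E : Subgroup G, E ≤ Subgroup.normalizer (S : Set G) ∧ IsComplIn E (sigmaCore M) M := by
  have : Fact q.Prime := ⟨c.hq⟩
  have hσn := Cfsg.Agent.Lib.Helper67.BG.sigmaCore_normalizer M
  have hσle := Cfsg.Agent.Lib.Helper67.BG.sigmaCore_le M
  have hHall := (h.h1350 M c.hM).1
  have hDH : Subgroup.normalizer (S : Set G) ⊓ sigmaCore M ≤ Subgroup.normalizer (S : Set G) :=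
    inf_le_left
  have hnorm : Subgroup.normalizer (S : Set G) ≤
      Subgroup.normalizer ((Subgroup.normalizer (S : Set G) ⊓ sigmaCore M : Subgroup G) : Set G) := by
    intro x hx
    have hx2 := hσn (c.hNM hx)
    rw [Subgroup.mem_normalizer_iff] at hx2 ⊢
    intro y
    constructor
    · rintro ⟨hy1, hy2⟩
      exact ⟨Subgroup.mul_mem _ (Subgroup.mul_mem _ hx hy1) (Subgroup.inv_mem _ hx),
        (hx2 y).mp hy2⟩
    · rintro ⟨hy1, hy2⟩
      refine ⟨?_, (hx2 y).mpr hy2⟩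
      have : y = x⁻¹ * (x * y * x⁻¹) * x := by group
      rw [this]
      exact Subgroup.mul_mem _ (Subgroup.mul_mem _ (Subgroup.inv_mem _ hx) hy1) hx
  have hcop : (Nat.card ↥(Subgroup.normalizer (S : Set G) ⊓ sigmaCore M)).Coprime
      ((Subgroup.normalizer (S : Set G) ⊓ sigmaCore M).relIndex
        (Subgroup.normalizer (S : Set G))) := by
    apply Nat.Coprime.symm
    apply Nat.coprime_of_dvd
    intro p hp hd1 hd2
    have h1 : p ∣ (sigmaCore M).relIndex M := by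
      rw [Subgroup.inf_relIndex_left] at hd1
      exact hd1.trans (relIndex_dvd_relIndex_of_le hσle c.hNM hσn)
    have h2 : p ∈ sigma M :=
      hHall.2.1 p hp (hd2.trans (Subgroup.card_dvd_of_le inf_le_right))
    exact hHall.2.2 p hp h2 h1
  obtain ⟨E, hE⟩ := exists_isComplIn_of_coprime hDH hnorm hcop
  refine ⟨E, hE.2.1, hE.2.1.trans c.hNM, hσle, ?_, ?_⟩
  · rw [eq_bot_iff]
    intro x hx
    have : x ∈ (Subgroup.normalizer (S : Set G) ⊓ sigmaCore M) ⊓ E :=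
      ⟨⟨hE.2.1 hx.1, hx.2⟩, hx.1⟩
    rw [hE.2.2.1] at this
    exact this
  · intro m hm
    obtain ⟨k, hk, hkm⟩ := Cfsg.Agent.Lib.Helper74.BG.frattini_arg (c.sylσ h) (hσn hm)
    obtain ⟨a, ha, b, hb, hab⟩ := hE.2.2.2 (k⁻¹ * m) hkm
    refine ⟨b, hb, b⁻¹ * (k * a) * b, ?_, ?_⟩
    · have hbM : b ∈ M := c.hNM (hE.2.1 hb)
      have hn := hσn (M.inv_mem hbM)
      have := (Subgroup.mem_normalizer_iff.mp hn (k * a)).mp (Subgroup.mul_mem _ hk ha.2)
      simpa using this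
    · have : m = k * (a * b) := by rw [← hab]; group
      rw [this]; group

/-- Properties of a complement `E ≤ N_G(S)` of `M_σ` in `M`. -/
theorem Cfg.compl_props (h : Hyp hG) (c : Cfg M Ms S q) {E : Subgroup G}
    (hEN : E ≤ Subgroup.normalizer (S : Set G)) (hE : IsComplIn E (sigmaCore M) M) :
    IsPiHallOf (kappa M) E M ∧ E ≠ ⊥ ∧
      (∀ e ∈ E, e ≠ 1 → ∀ s ∈ S, e * s = s * e → s = 1) ∧ E ⊓ sigmaCore Ms = ⊥ := by
  have hHallκ := isPiHallOf_kappa_of_isComplIn (h.h1350 M c.hM).1 hE (c.kappa_of_not_sigma h)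
  have h26 := h.h1426 M c.hM E hE
  have hE1 : E ≠ ⊥ := by
    intro hbot
    have hle : S ≤ ⁅sigmaCore M, sigmaCore M⁆ := by
      intro s hs
      apply h26.1
      refine Subgroup.mem_inf.mpr ⟨c.le_sigmaCore h hs, ?_⟩
      rw [Subgroup.mem_centralizer_iff]
      intro y hy
      rw [hbot] at hy
      have hy1 : y = 1 := Subgroup.mem_bot.mp hy
      rw [hy1, one_mul, mul_one]
    apply c.hS1
    rw [eq_bot_iff, ← c.inf_commutator h]
    exact le_inf le_rfl hle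
  have hfpf : ∀ e ∈ E, e ≠ 1 → ∀ s ∈ S, e * s = s * e → s = 1 := by
    intro e he he1 s hs hes
    have h30 := (h.h1430 M c.hM E hHallκ hE1).1 e he he1
    have hs1 : s ∈ sigmaCore M ⊓ Subgroup.centralizer ({e} : Set G) := by
      refine Subgroup.mem_inf.mpr ⟨c.le_sigmaCore h hs, ?_⟩
      rw [Subgroup.mem_centralizer_iff]
      intro x hx
      rw [Set.mem_singleton_iff] at hx
      rw [hx]; exact hes
    rw [h30] at hs1
    have hs2 := h26.1 hs1
    have hs3 : s ∈ S ⊓ ⁅sigmaCore M, sigmaCore M⁆ := ⟨hs, hs2⟩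
    rw [c.inf_commutator h] at hs3
    exact Subgroup.mem_bot.mp hs3
  refine ⟨hHallκ, hE1, hfpf, ?_⟩
  rw [eq_bot_iff]
  rintro e ⟨heE, heσ⟩
  rw [Subgroup.mem_bot]
  by_contra he1
  obtain ⟨s, hs, hs1⟩ : ∃ s ∈ S, s ≠ 1 := by
    by_contra hcon
    push Not at hcon
    exact c.hS1 ((Subgroup.eq_bot_iff_forall S).mpr hcon)
  have hcomm : e * s = s * e := by
    have hc : e * s * e⁻¹ * s⁻¹ ∈ S ⊓ ⁅sigmaCore Ms, sigmaCore Ms⁆ := by
      constructor
      · exact S.mul_mem ((Subgroup.mem_normalizer_iff.mp (hEN heE) s).mp hs) (S.inv_mem hs)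
      · exact Subgroup.commutator_mem_commutator heσ (c.symm.le_sigmaCore h hs)
    rw [c.symm.inf_commutator h, Subgroup.mem_bot] at hc
    calc e * s = (e * s * e⁻¹ * s⁻¹) * s * e := by group
      _ = s * e := by rw [hc, one_mul]
  exact hs1 (hfpf e heE he1 s hs hcomm)

theorem Cfg.card_compl_dvd (h : Hyp hG) (c : Cfg M Ms S q) {E Es : Subgroup G}
    (hEN : E ≤ Subgroup.normalizer (S : Set G)) (hE : IsComplIn E (sigmaCore M) M)
    (hEs : IsComplIn Es (sigmaCore Ms) Ms) :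
    Nat.card (sigmaCore Ms ⊔ E : Subgroup G) = Nat.card (sigmaCore Ms) * Nat.card E ∧
      Nat.card E ∣ Nat.card Es := by
  obtain ⟨-, -, -, hdisj⟩ := c.compl_props h hEN hE
  have hEMs : E ≤ Ms := hEN.trans c.hNMs
  have hEn : E ≤ Subgroup.normalizer ((sigmaCore Ms : Subgroup G) : Set G) :=
    hEMs.trans (Cfsg.Agent.Lib.Helper67.BG.sigmaCore_normalizer Ms)
  have h1 := Cfsg.Agent.Lib.Helper27.BG36.card_sup_mul_card_inf_nz (sigmaCore Ms) E hEn
  rw [inf_comm, hdisj, Subgroup.card_bot, mul_one] at h1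
  refine ⟨h1, ?_⟩
  have h2 : Nat.card (sigmaCore Ms ⊔ E : Subgroup G) ∣ Nat.card Ms :=
    Subgroup.card_dvd_of_le (sup_le (Cfsg.Agent.Lib.Helper67.BG.sigmaCore_le Ms) hEMs)
  have h3 : Nat.card (sigmaCore Ms) * (sigmaCore Ms).relIndex Ms = Nat.card Ms :=
    card_mul_relIndex' (Cfsg.Agent.Lib.Helper67.BG.sigmaCore_le Ms)
  rw [relIndex_right_of_isComplIn hEs] at h3
  rw [h1, ← h3] at h2
  exact Nat.dvd_of_mul_dvd_mul_left Nat.card_pos h2

/-- A common complement `E ≤ N_G(S)` of `M_σ` in `M` and of `Ms_σ` in `Ms`. -/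
theorem Cfg.common_compl (h : Hyp hG) (c : Cfg M Ms S q) :
    ∃ E : Subgroup G, E ≤ Subgroup.normalizer (S : Set G) ∧ IsComplIn E (sigmaCore M) M ∧
      IsComplIn E (sigmaCore Ms) Ms := by
  obtain ⟨E, hEN, hE⟩ := c.exists_compl h
  obtain ⟨Es, hEsN, hEs⟩ := c.symm.exists_compl h
  obtain ⟨hc1, hd1⟩ := c.card_compl_dvd h hEN hE hEs
  obtain ⟨-, hd2⟩ := c.symm.card_compl_dvd h hEsN hEs hE
  have hcard : Nat.card E = Nat.card Es := Nat.dvd_antisymm hd1 hd2
  obtain ⟨-, -, -, hdisj⟩ := c.compl_props h hEN hE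
  have hEMs : E ≤ Ms := hEN.trans c.hNMs
  have hσle := Cfsg.Agent.Lib.Helper67.BG.sigmaCore_le Ms
  have hσn := Cfsg.Agent.Lib.Helper67.BG.sigmaCore_normalizer Ms
  have hsup : sigmaCore Ms ⊔ E = Ms := by
    apply Subgroup.eq_of_le_of_card_ge (sup_le hσle hEMs)
    have h3 : Nat.card (sigmaCore Ms) * (sigmaCore Ms).relIndex Ms = Nat.card Ms :=
      card_mul_relIndex' hσle
    rw [relIndex_right_of_isComplIn hEs] at h3
    rw [hc1, hcard, h3]
  refine ⟨E, hEN, hE, hEMs, hσle, hdisj, ?_⟩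
  intro m hm
  rw [← hsup] at hm
  obtain ⟨a, ha, b, hb, rfl⟩ :=
    Cfsg.Agent.Lib.Helper85.BG36.mem_sup_of_le_normalizer (hEMs.trans hσn) hm
  refine ⟨b, hb, b⁻¹ * a * b, ?_, by group⟩
  have hn := hσn (Ms.inv_mem (hEMs hb))
  have := (Subgroup.mem_normalizer_iff.mp hn a).mp ha
  simpa using this

/-- `O_β(M) ≤ M_σ`. -/
theorem betaCore_le_sigmaCore (h : Hyp hG) {M : Subgroup G} (hM : IsCoatom M) :
    piCoreOf (beta M) M ≤ sigmaCore M := by
  refine Cfsg.Agent.Lib.Helper74.BG.le_of_isPiHallOf_of_normal (h.h1350 M hM).1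
    (Cfsg.Agent.Lib.Helper67.BG.sigmaCore_normalizer M) (piCoreOf_le _ M) ?_
  intro p hp hdvd
  have hβ : p ∈ beta M := (h.h1414 M hM).1.2.1 p hp hdvd
  exact Cfsg.Agent.Lib.Helper78.BG.alpha_subset_sigma hG h.h1403 M hM hβ.1

/-- `C_{M_β}(S) = 1`. -/
theorem Cfg.betaCore_inf_centralizer (h : Hyp hG) (c : Cfg M Ms S q) {E : Subgroup G}
    (hEN : E ≤ Subgroup.normalizer (S : Set G)) (hE : IsComplIn E (sigmaCore M) M)
    (hEs : IsComplIn E (sigmaCore Ms) Ms) :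
    piCoreOf (beta M) M ⊓ Subgroup.centralizer (S : Set G) = ⊥ := by
  obtain ⟨hκ, -, -, -⟩ := c.compl_props h hEN hE
  have hσle := Cfsg.Agent.Lib.Helper67.BG.sigmaCore_le Ms
  have hσn := Cfsg.Agent.Lib.Helper67.BG.sigmaCore_normalizer Ms
  have hY : Subgroup.normalizer (S : Set G) ⊓ sigmaCore M ≤ sigmaCore Ms := by
    refine le_of_coprime_relIndex hσle hσn (inf_le_left.trans c.hNMs) ?_
    rw [relIndex_right_of_isComplIn hEs]
    apply Nat.coprime_of_dvd
    intro p hp hd1 hd2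
    have h1 : p ∈ sigma M :=
      (h.h1350 M c.hM).1.2.1 p hp (hd1.trans (Subgroup.card_dvd_of_le inf_le_right))
    exact (hκ.2.1 p hp hd2).2.2.1 h1
  rw [eq_bot_iff]
  rintro x ⟨hxβ, hxC⟩
  rw [Subgroup.mem_bot]
  by_contra hx1
  have hxσ : x ∈ sigmaCore Ms :=
    hY ⟨centralizer_le_normalizer' S hxC, betaCore_le_sigmaCore h c.hM hxβ⟩
  have hord : orderOf x ≠ 1 := fun h1 => hx1 (orderOf_eq_one_iff.mp h1)
  obtain ⟨p, hp, hdvd⟩ := Nat.exists_prime_and_dvd hord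
  have hpβ : p ∈ beta M :=
    (h.h1414 M c.hM).1.2.1 p hp (hdvd.trans (Subgroup.orderOf_dvd_natCard _ hxβ))
  have hpσ : p ∈ sigma Ms :=
    (h.h1350 Ms c.hMs).1.2.1 p hp (hdvd.trans (Subgroup.orderOf_dvd_natCard _ hxσ))
  exact c.not_alpha_of_sigma h hpσ hpβ.1

/-- `O_β(M) ≠ 1`. -/
theorem Cfg.betaCore_ne_bot (h : Hyp hG) (c : Cfg M Ms S q) : piCoreOf (beta M) M ≠ ⊥ := by
  intro hbot
  obtain ⟨hβHall, -, -, ⟨W, hW, hWnil⟩, -⟩ := h.h1414 M c.hM
  have hrel : W.relIndex (sigmaCore M) = 1 := by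
    by_contra hne
    obtain ⟨p, hp, hdvd⟩ := Nat.exists_prime_and_dvd hne
    have hpβ : p ∈ beta M := by
      by_contra hpβ
      exact hW.2.2 p hp ⟨hp, hpβ⟩ hdvd
    apply hβHall.2.2 p hp hpβ
    rw [hbot, Subgroup.relIndex_bot_left]
    have h1 : Nat.card W * W.relIndex (sigmaCore M) = Nat.card (sigmaCore M) :=
      card_mul_relIndex' hW.1
    exact (hdvd.trans (Dvd.intro_left _ h1)).trans
      (Subgroup.card_dvd_of_le (Cfsg.Agent.Lib.Helper67.BG.sigmaCore_le M))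
  have hle : sigmaCore M ≤ W := Subgroup.relIndex_eq_one.mp hrel
  exact c.not_nilpotent h (Cfsg.Agent.Lib.Helper16.BG.isNilpotent_of_le' hWnil hle)

/-- A subgroup of prime order of `O_β(M)` centralizing the subgroup `X` of prime order of `E`. -/
theorem Cfg.exists_prime_centralizer (h : Hyp hG) (c : Cfg M Ms S q) {E : Subgroup G}
    (hEN : E ≤ Subgroup.normalizer (S : Set G)) (hE : IsComplIn E (sigmaCore M) M)
    (hEs : IsComplIn E (sigmaCore Ms) Ms) {X : Subgroup G} (hXE : X ≤ E) {p : ℕ}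
    (hp : p.Prime) (hX : Nat.card X = p) :
    ∃ (R : Subgroup G) (r : ℕ), r.Prime ∧ Nat.card R = r ∧ r ∈ beta M ∧ R ≤ M ∧
      R ≤ Subgroup.centralizer (X : Set G) := by
  have : Fact q.Prime := ⟨c.hq⟩
  obtain ⟨hκ, -, hfpf, -⟩ := c.compl_props h hEN hE
  obtain ⟨hβHall, -⟩ := h.h1414 M c.hM
  have hBn := le_normalizer_piCoreOf (beta M) M
  have hBM := piCoreOf_le (beta M) M
  have hXN : X ≤ Subgroup.normalizer (S : Set G) := hXE.trans hEN
  have hUn : ∀ e ∈ X, ∀ u ∈ S, e * u * e⁻¹ ∈ S :=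
    fun e he u hu => (Subgroup.mem_normalizer_iff.mp (hXN he) u).mp hu
  have hfpf' : ∀ e ∈ X, e ≠ 1 → ∀ u ∈ S, e * u = u * e → u = 1 :=
    fun e he he1 u hu hc => hfpf e (hXE he) he1 u hu hc
  have hnil : Group.IsNilpotent S := c.pgroup.isNilpotent
  have hGH : S ⊔ X ≤ Subgroup.normalizer ((piCoreOf (beta M) M : Subgroup G) : Set G) :=
    sup_le (c.hSM.trans hBn) ((hXE.trans hE.1).trans hBn)
  have hsolv : Group.IsSolvable (piCoreOf (beta M) M) :=
    Cfsg.Agent.Lib.Helper1.isSolvable_of_le hBM (isSolvable_of_ne_top hG c.hM.1)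
  have hqB : ¬ q ∣ Nat.card (piCoreOf (beta M) M) := by
    intro hd
    exact c.not_alpha_of_sigma h c.symm.mem_sigma (hβHall.2.1 q c.hq hd).1
  have hpB : ¬ p ∣ Nat.card (piCoreOf (beta M) M) := by
    intro hd
    have h1 : p ∈ sigma M :=
      Cfsg.Agent.Lib.Helper78.BG.alpha_subset_sigma hG h.h1403 M c.hM (hβHall.2.1 p hp hd).1
    exact (hκ.2.1 p hp (hX ▸ Subgroup.card_dvd_of_le hXE)).2.2.1 h1
  have hcop : Nat.Coprime (Nat.card (piCoreOf (beta M) M)) (Nat.card ↥(S ⊔ X)) := by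
    have hd : Nat.card ↥(S ⊔ X) ∣ Nat.card S * Nat.card X := by
      have := card_sup_dvd_mul (A := X) (B := S) hXN
      rwa [sup_comm, mul_comm] at this
    apply Nat.Coprime.coprime_dvd_right hd
    apply Nat.Coprime.mul_right
    · obtain ⟨n, hn⟩ := IsPGroup.iff_card.mp c.pgroup
      rw [hn]
      exact Nat.Coprime.pow_right n ((Nat.Prime.coprime_iff_not_dvd c.hq).mpr hqB).symm
    · rw [hX]
      exact ((Nat.Prime.coprime_iff_not_dvd hp).mpr hpB).symm
  have frob := Cfsg.Agent.Lib.Helper97.FrobFormula.frob_formula S X (piCoreOf (beta M) M)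
    hUn hfpf' hnil hGH hsolv hcop
  have hBS := c.betaCore_inf_centralizer h hEN hE hEs
  have hBSX : piCoreOf (beta M) M ⊓ Subgroup.centralizer ((S ⊔ X : Subgroup G) : Set G) = ⊥ := by
    rw [eq_bot_iff, ← hBS]
    exact inf_le_inf_left _ (centralizer_anti le_sup_left)
  rw [hBS, hBSX, Subgroup.card_bot, one_pow, one_mul, mul_one] at frob
  have hne : piCoreOf (beta M) M ⊓ Subgroup.centralizer (X : Set G) ≠ ⊥ := by
    intro hbot
    rw [hbot, Subgroup.card_bot, one_pow] at frob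
    exact c.betaCore_ne_bot h (Subgroup.eq_bot_of_card_eq _ frob)
  obtain ⟨R, r, hr, hR, hRle⟩ := exists_prime_card_le hne
  refine ⟨R, r, hr, hR, ?_, hRle.trans (inf_le_left.trans hBM), hRle.trans inf_le_right⟩
  apply hβHall.2.1 r hr
  rw [← hR]
  exact Subgroup.card_dvd_of_le (hRle.trans inf_le_left)

/-- Lemma A: `K` a Hall `κ(M)`-subgroup of `M`, `X ≤ K` of prime order, `R ≤ M` of prime order
`r ∈ β(M)` centralizing `X`, `L` a maximal subgroup containing `N_G(X)`.  Then some Hall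
`κ(L)`-subgroup of `L` has order divisible by `r` and lies in `K × C_{M_σ}(K)`. -/
theorem lemmaA (h : Hyp hG) {M : Subgroup G} (hM : IsCoatom M) {K : Subgroup G}
    (hK : IsPiHallOf (kappa M) K M) {X : Subgroup G} (hXK : X ≤ K) {p : ℕ} (hp : p.Prime)
    (hX : Nat.card X = p) {R : Subgroup G} {r : ℕ} (hr : r.Prime) (hR : Nat.card R = r)
    (hrβ : r ∈ beta M) (hRM : R ≤ M) (hRX : R ≤ Subgroup.centralizer (X : Set G))
    {L : Subgroup G} (hL : IsCoatom L) (hNL : Subgroup.normalizer (X : Set G) ≤ L) :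
    ∃ K₁ : Subgroup G, IsPiHallOf (kappa L) K₁ L ∧ r ∣ Nat.card K₁ ∧
      K₁ ≤ K ⊔ (sigmaCore M ⊓ Subgroup.centralizer (K : Set G)) := by
  have : Fact r.Prime := ⟨hr⟩
  have : Fact p.Prime := ⟨hp⟩
  obtain ⟨x, hxX, hxord, hXx⟩ := exists_generator_of_card_prime hp hX
  obtain ⟨u, huR, huord, hRu⟩ := exists_generator_of_card_prime hr hR
  have hx1 : x ≠ 1 := by
    intro h1
    rw [h1, orderOf_one] at hxord
    exact hp.one_lt.ne hxord
  have hu1 : u ≠ 1 := by
    intro h1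
    rw [h1, orderOf_one] at huord
    exact hr.one_lt.ne huord
  have hK1 : K ≠ ⊥ := by
    intro hbot
    have : x ∈ (⊥ : Subgroup G) := hbot ▸ hXK hxX
    exact hx1 (Subgroup.mem_bot.mp this)
  obtain ⟨-, -, h30c⟩ := h.h1430 M hM K hK hK1
  obtain ⟨hNX, -, hXL⟩ := h30c X hXK (by rw [hX]; exact hp)
  have hXLσ : X ≤ sigmaCore L := hXL L hL hNL
  have hpσL : p ∈ sigma L :=
    (h.h1350 L hL).1.2.1 p hp (by rw [← hX]; exact Subgroup.card_dvd_of_le hXLσ)
  have hpκ : p ∈ kappa M := hK.2.1 p hp (hX ▸ Subgroup.card_dvd_of_le hXK)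
  have hpσM : p ∉ sigma M := hpκ.2.2.1
  have hLM : M ≠ L := by
    rintro rfl
    exact hpσM hpσL
  have hrα : r ∈ alpha M := hrβ.1
  have hrσM : r ∈ sigma M := Cfsg.Agent.Lib.Helper78.BG.alpha_subset_sigma hG h.h1403 M hM hrα
  have hrσL : r ∉ sigma L := by
    intro hrL
    obtain ⟨g, hg⟩ := Cfsg.Agent.Lib.Helper74.BG.conj_of_sigma_of_rank3 hG h.h1403 hL hM hrL hrα.2
    apply hpσM
    rw [hg, sigma_map_conj]
    exact hpσL
  have hux : u * x = x * u := by
    have h1 := hRX huR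
    rw [Subgroup.mem_centralizer_iff] at h1
    exact (h1 x hxX).symm
  have hRL : R ≤ L := fun y hy => hNL (centralizer_le_normalizer' X (hRX hy))
  have huL : u ∈ L := hRL huR
  have hxLσ : x ∈ sigmaCore L := hXLσ hxX
  have hκτ := Cfsg.Agent.Lib.Helper67.BG.kappa_or_tau2 hG h.h1405 L hL r hr hrσL u huL huord x
    hxLσ hx1 hux
  obtain ⟨P⟩ : Nonempty (Sylow r ↥(sigmaCore M)) := inferInstance
  have hCR : Subgroup.centralizer (R : Set G) ≤ M :=
    (h.h1423 M hM r hrσM R hRM hR P (Or.inl hrβ)).1.1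
  have hCu : Subgroup.centralizer ({u} : Set G) ≤ Subgroup.centralizer (R : Set G) := by
    intro c hc
    rw [hRu]
    apply mem_centralizer_zpowers
    rw [Subgroup.mem_centralizer_iff] at hc
    exact (hc u (Set.mem_singleton u)).symm
  have hrκ : r ∈ kappa L := by
    rcases hκτ with hκ | hτ
    · exact hκ
    · exfalso
      obtain ⟨EL, hEL⟩ := Cfsg.Agent.Lib.Helper67.BG.exists_compl_sigmaCore L (h.h1350 L hL).1
      have h20 := (h.h1420 L hL EL hEL).2.2.2 u huL hu1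
        (fun p' hp' hdvd => by
          rw [huord] at hdvd
          rw [(Nat.prime_dvd_prime_iff_eq hp' hr).mp hdvd]
          exact hτ)
        ⟨huL, x, hxLσ, hx1, hux⟩
      exact hLM (h20.2 M hM (hCu.trans hCR))
  obtain ⟨K₁, hK₁, hRK₁⟩ := Cfsg.Agent.Lib.Helper67.BG.exists_piHallOf_ge (kappa L) L
    (isSolvable_of_ne_top hG hL.1) R hRL
    (fun p' hp' hdvd => by
      rw [hR] at hdvd
      rw [(Nat.prime_dvd_prime_iff_eq hp' hr).mp hdvd]
      exact hrκ)
  have hK₁1 : K₁ ≠ ⊥ := by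
    intro hbot
    have : u ∈ (⊥ : Subgroup G) := hbot ▸ hRK₁ huR
    exact hu1 (Subgroup.mem_bot.mp this)
  obtain ⟨h30a', -, h30c'⟩ := h.h1430 L hL K₁ hK₁ hK₁1
  have hxC : x ∈ sigmaCore L ⊓ Subgroup.centralizer (K₁ : Set G) := by
    rw [← h30a' u (hRK₁ huR) hu1]
    refine Subgroup.mem_inf.mpr ⟨hxLσ, ?_⟩
    rw [Subgroup.mem_centralizer_iff]
    intro y hy
    rw [Set.mem_singleton_iff] at hy
    rw [hy]; exact hux
  have hK₁X : K₁ ≤ Subgroup.centralizer (X : Set G) := by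
    intro k hk
    rw [hXx]
    apply mem_centralizer_zpowers
    have h1 := (Subgroup.mem_inf.mp hxC).2
    rw [Subgroup.mem_centralizer_iff] at h1
    exact h1 k hk
  obtain ⟨hNR, -, -⟩ := h30c' R hRK₁ (by rw [hR]; exact hr)
  have hK₁NR : K₁ ≤ Subgroup.normalizer (R : Set G) := by
    intro k hk
    have h1 : k ∈ L ⊓ Subgroup.normalizer (R : Set G) := by
      rw [hNR]; exact (le_sup_left : K₁ ≤ _) hk
    exact (Subgroup.mem_inf.mp h1).2
  have hRp : IsPGroup r R := IsPGroup.of_card (n := 1) (by rw [hR, pow_one])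
  have hR1 : R ≠ ⊥ := by
    intro hbot
    have : u ∈ (⊥ : Subgroup G) := hbot ▸ huR
    exact hu1 (Subgroup.mem_bot.mp this)
  have h04 := (h.h1404 M hM r hrσM R hRp hR1 hRM).2
  have hNRM : Subgroup.normalizer (R : Set G) ≤ M := by
    rw [h04]; exact sup_le inf_le_left hCR
  refine ⟨K₁, hK₁, hR ▸ Subgroup.card_dvd_of_le hRK₁, ?_⟩
  rw [← hNX]
  exact fun k hk => Subgroup.mem_inf.mpr
    ⟨hNRM (hK₁NR hk), centralizer_le_normalizer' X (hK₁X hk)⟩

/-- The configuration is contradictory. -/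
theorem Cfg.false (h : Hyp hG) (c : Cfg M Ms S q) : False := by
  obtain ⟨E, hEN, hE, hEs⟩ := c.common_compl h
  obtain ⟨hκ, hE1, -, -⟩ := c.compl_props h hEN hE
  obtain ⟨hκs, -, -, -⟩ := c.symm.compl_props h hEN hEs
  obtain ⟨X, p, hp, hX, hXE⟩ := exists_prime_card_le hE1
  obtain ⟨R, r, hr, hR, hrβ, hRM, hRX⟩ := c.exists_prime_centralizer h hEN hE hEs hXE hp hX
  obtain ⟨Rs, rs, hrs, hRs, hrsβ, hRsM, hRsX⟩ :=
    c.symm.exists_prime_centralizer h hEN hEs hE hXE hp hX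
  have hX1 : X ≠ ⊥ := by
    intro hbot
    rw [hbot, Subgroup.card_bot] at hX
    exact hp.one_lt.ne hX
  have hXtop : X ≠ ⊤ := by
    intro htop
    exact c.hM.1 (top_le_iff.mp (htop ▸ hXE.trans hE.1))
  obtain ⟨L, hL, hNL⟩ := exists_coatom_ge (normalizer_ne_top hG hX1 hXtop)
  obtain ⟨K₁, hK₁, hrK₁, -⟩ := lemmaA h c.hM hκ hXE hp hX hr hR hrβ hRM hRX hL hNL
  obtain ⟨K₂, hK₂, -, hK₂le⟩ := lemmaA h c.hMs hκs hXE hp hX hrs hRs hrsβ hRsM hRsX hL hNL
  have hcard : Nat.card K₁ = Nat.card K₂ := card_eq_of_isPiHallOf hK₁ hK₂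
  have hr2 : r ∣ Nat.card K₂ := hcard ▸ hrK₁
  have hEn : E ≤ Subgroup.normalizer
      ((sigmaCore Ms ⊓ Subgroup.centralizer (E : Set G) : Subgroup G) : Set G) := by
    intro e he
    rw [Subgroup.mem_normalizer_iff]
    intro y
    constructor
    · intro hy
      have h1 := (Subgroup.mem_inf.mp hy).2
      rw [Subgroup.mem_centralizer_iff] at h1
      have h2 : e * y * e⁻¹ = y := by rw [h1 e he]; group
      rw [h2]; exact hy
    · intro hy
      have h1 := (Subgroup.mem_inf.mp hy).2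
      rw [Subgroup.mem_centralizer_iff] at h1
      have h2 : e * (e * y * e⁻¹) = (e * y * e⁻¹) * e := h1 e he
      have h3 : e * y * e⁻¹ = y := by
        have : e * y = y * e := by
          have h4 : e * (e * y * e⁻¹) * e⁻¹ = e * y * e⁻¹ := by rw [h2]; group
          have h5 : e⁻¹ * (e * (e * y * e⁻¹) * e⁻¹) * e = e⁻¹ * (e * y * e⁻¹) * e := by rw [h4]
          have h6 : e⁻¹ * (e * (e * y * e⁻¹) * e⁻¹) * e = e * y * e⁻¹ * e⁻¹ * e := by group
          have h7 : e⁻¹ * (e * y * e⁻¹) * e = y := by group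
          rw [h6, h7] at h5
          calc e * y = (e * y * e⁻¹ * e⁻¹ * e) * e := by group
            _ = y * e := by rw [h5]
        rw [this]; group
      rw [h3] at hy; exact hy
  have hd : r ∣ Nat.card E * Nat.card ↥(sigmaCore Ms ⊓ Subgroup.centralizer (E : Set G)) :=
    (hr2.trans (Subgroup.card_dvd_of_le hK₂le)).trans (card_sup_dvd_mul hEn)
  rcases (Nat.Prime.dvd_mul hr).mp hd with h1 | h2
  · exact (hκ.2.1 r hr h1).2.2.1
      (Cfsg.Agent.Lib.Helper78.BG.alpha_subset_sigma hG h.h1403 M c.hM hrβ.1)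
  · have h3 : r ∈ sigma Ms :=
      (h.h1350 Ms c.hMs).1.2.1 r hr (h2.trans (Subgroup.card_dvd_of_le inf_le_left))
    exact c.not_alpha_of_sigma h h3 hrβ.1

end

/-- A nonabelian simple group is not a `p`-group: a Sylow subgroup is proper. -/
theorem sylow_ne_top {G : Type*} [Group G] [Finite G] (hG : Cfsg.IsMinSimpleOddOrder G)
    {p : ℕ} [Fact p.Prime] (P : Sylow p G) : (P : Subgroup G) ≠ ⊤ := by
  intro htop
  have hsimple : IsSimpleGroup G := hG.2.1
  have hpG : IsPGroup p G := by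
    intro g
    obtain ⟨k, hk⟩ := P.isPGroup' ⟨g, htop ▸ Subgroup.mem_top g⟩
    exact ⟨k, by simpa using congrArg Subtype.val hk⟩
  have hnt : Nontrivial (Subgroup.center G) := hpG.center_nontrivial
  rcases (inferInstance : (Subgroup.center G).Normal).eq_bot_or_eq_top with h1 | h1
  · rw [Subgroup.nontrivial_iff_ne_bot] at hnt
    exact hnt h1
  · apply hG.2.2.1
    refine ⟨⟨fun a b => ?_⟩⟩
    have ha : a ∈ Subgroup.center G := h1 ▸ Subgroup.mem_top a
    exact (Subgroup.mem_center_iff.mp ha b).symm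

/-- Statement S1378 from the earlier statements S1350, S1403, S1404, S1405, S1414, S1420, S1423,
S1426, S1429, S1430. -/
theorem s1378_core {G : Type*} [Group G] [Finite G] (hG : Cfsg.IsMinSimpleOddOrder G)
    (h1350 : type_of% (@Cfsg.CfsgFrozen.S1350 G _ _ hG))
    (h1403 : type_of% (@Cfsg.CfsgFrozen.S1403 G _ _ hG))
    (h1404 : type_of% (@Cfsg.CfsgFrozen.S1404 G _ _ hG))
    (h1405 : type_of% (@Cfsg.CfsgFrozen.S1405 G _ _ hG))
    (h1414 : type_of% (@Cfsg.CfsgFrozen.S1414 G _ _ hG))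
    (h1420 : type_of% (@Cfsg.CfsgFrozen.S1420 G _ _ hG))
    (h1423 : type_of% (@Cfsg.CfsgFrozen.S1423 G _ _ hG))
    (h1426 : type_of% (@Cfsg.CfsgFrozen.S1426 G _ _ hG))
    (h1429 : type_of% (@Cfsg.CfsgFrozen.S1429 G _ _ hG))
    (h1430 : type_of% (@Cfsg.CfsgFrozen.S1430 G _ _ hG)) :
    type_of% (@Cfsg.CfsgFrozen.S1378 G _ _ hG) := by
  have h : Hyp hG := ⟨h1350, h1403, h1404, h1405, h1414, h1420, h1423, h1426, h1429, h1430⟩
  refine ⟨?_, ?_⟩
  · intro p hp hdvd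
    have : Fact p.Prime := ⟨hp⟩
    obtain ⟨P⟩ : Nonempty (Sylow p G) := inferInstance
    have hP1 : (P : Subgroup G) ≠ ⊥ := P.ne_bot_of_dvd_card hdvd
    obtain ⟨M, hM, hNM⟩ := exists_coatom_ge (normalizer_ne_top hG hP1 (sylow_ne_top hG P))
    have hPM : (P : Subgroup G) ≤ M := Subgroup.le_normalizer.trans hNM
    have hsyl : IsSylowIn p (P : Subgroup G) ⊤ :=
      ⟨le_top, by rw [Sylow.card_eq_multiplicity, Subgroup.card_top]⟩
    have hsylM : IsSylowIn p (P : Subgroup G) M := sylIn_mono hsyl hPM le_top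
    refine ⟨M, hM, mem_sigma_of_isSylowIn hsylM ?_ hNM⟩
    exact (Cfsg.Agent.Lib.Helper67.BG.dvd_card_of_isPGroup_ne_bot P.isPGroup' hP1).trans
      (Subgroup.card_dvd_of_le hPM)
  · rintro M N hM hN ⟨q, hqM, hqN⟩
    by_contra hnc
    push Not at hnc
    obtain ⟨hqp, hdM, P, hNP⟩ := id hqM
    obtain ⟨-, hdN, Q, hNQ⟩ := id hqN
    have : Fact q.Prime := ⟨hqp⟩
    have hSM : IsSylowIn q ((P : Subgroup M).map M.subtype) M := isSylowIn_of_sylow P
    have hStop : IsSylowIn q ((P : Subgroup M).map M.subtype) ⊤ := isSylowIn_top_of_sigma hqM hSM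
    have hTN : IsSylowIn q ((Q : Subgroup N).map N.subtype) N := isSylowIn_of_sylow Q
    have hTtop : IsSylowIn q ((Q : Subgroup N).map N.subtype) ⊤ := isSylowIn_top_of_sigma hqN hTN
    obtain ⟨g, -, hg⟩ := hTtop.exists_conj hStop
    have hS1 : (P : Subgroup M).map M.subtype ≠ ⊥ := by
      intro hbot
      have h1 := hSM.2
      rw [hbot, Subgroup.card_bot] at h1
      have h2 : (Nat.card M).factorization q = 0 := by
        by_contra h3
        have : 1 < q ^ (Nat.card M).factorization q := Nat.one_lt_pow h3 hqp.one_lt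
        omega
      rcases (Nat.factorization_eq_zero_iff _ _).mp h2 with h3 | h3 | h3
      · exact h3 hqp
      · exact h3 hdM
      · exact Nat.card_pos.ne' h3
    have c : Cfg M (N.map (MulAut.conj g).toMonoidHom) ((P : Subgroup M).map M.subtype) q :=
      { hM := hM
        hMs := Cfsg.Agent.Lib.Helper47.isCoatom_map_conj hN g
        hq := hqp
        hS := hStop
        hS1 := hS1
        hSM := hSM.1
        hSMs := by rw [hg]; exact Subgroup.map_mono hTN.1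
        hNM := hNP
        hNMs := by rw [hg, normalizer_map_conj]; exact Subgroup.map_mono hNQ
        hnc := by
          intro g' hg'
          apply hnc (g⁻¹ * g')
          have h1 : (N.map (MulAut.conj g).toMonoidHom).map (MulAut.conj g⁻¹).toMonoidHom = N := by
            rw [Cfsg.Agent.Lib.Helper35.BG.map_conj_mul, inv_mul_cancel,
              Cfsg.Agent.Lib.Helper35.BG.map_conj_one]
          rw [← h1, hg', Cfsg.Agent.Lib.Helper35.BG.map_conj_mul] }
    exact c.false h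

end Cfsg.Agent.Lib.Helper27.BG
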